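import Cfsg.Agent.H419.EP.Soc
import Cfsg.Agent.H419.EP.Targets
import Cfsg.Agent.H117.EP.ModelPSL
import Cfsg.Agent.H680.Cov.SU6.Res
import Cfsg.Agent.H852.NCPsl11

/-!
# S3499, row S5803: `U_6(q)`, residual class (helper835, task 5971)

`row_of`: from the list S5803 (`R5803`), the bounds `A.index ≤ …` for the socles `L_2(11)`, `A_7`, `L_3(4)`, `U_4(3)`,
and the three special cases `M_22 < U_6(2)`, `U_4(3) < U_6(2)`, `U_3(q) < U_6(q)`.
-/

set_option autoImplicit false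

namespace Cfsg.Agent.H835.EP

open Subgroup Cfsg.Agent.H284 Cfsg.Agent.H419.EP
open scoped MatrixGroups

section

variable {Q Q' : Type*} [Group Q] [Group Q'] {ι : Type} [Fintype ι] [DecidableEq ι] {F : Type*} [Field F]
  {S : Subgroup (GL ι F)}

/-- Two groups with a model on the same `S` are isomorphic. -/
theorem equiv_of_models (m : Model Q S) (m' : Model Q' S) : Nonempty (Q ≃* Q') := by
  have hk : m.π.ker = m'.π.ker := by
    ext s
    rw [MonoidHom.mem_ker, MonoidHom.mem_ker, m.ker, m'.ker]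
  exact ⟨(QuotientGroup.quotientKerEquivOfSurjective m.π m.surj).symm.trans
    ((QuotientGroup.quotientMulEquivOfEq hk).trans (QuotientGroup.quotientKerEquivOfSurjective m'.π m'.surj))⟩

end

section

variable {F : Type} [Field F] [Fintype F] {q : ℕ}

/-- order formula -/
theorem card_six (hF : Fintype.card F = q ^ 2) {Q : Type} [Group Q]
    (m : Model Q (Cfsg.GU 6 F q ⊓ Cfsg.Geo.specialLinear (Fin 6) F)) :
    Nat.gcd 6 (q + 1) * Nat.card Q =
      q ^ 15 * ((q ^ 2 - 1) * (q ^ 3 + 1) * (q ^ 4 - 1) * (q ^ 5 + 1) * (q ^ 6 - 1)) := by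
  obtain ⟨m'⟩ := Cfsg.Agent.H117.EP.model_PSU (n := 6) hF (by norm_num)
  obtain ⟨e⟩ := equiv_of_models m m'
  have h := S0280.result hF 6 (by norm_num)
  rw [← Nat.card_congr e.toEquiv] at h
  simp only [Finset.prod_range_succ, Finset.prod_range_zero, one_mul, Nat.even_iff] at h
  norm_num at h
  apply Nat.eq_of_mul_eq_mul_left (show 0 < q + 1 by omega)
  calc (q + 1) * (Nat.gcd 6 (q + 1) * Nat.card Q) = Nat.gcd 6 (q + 1) * ((q + 1) * Nat.card Q) := by ring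
    _ = _ := h
    _ = _ := by ring

theorem card_six_two (hF : Fintype.card F = 2 ^ 2) {Q : Type} [Group Q]
    (m : Model Q (Cfsg.GU 6 F 2 ⊓ Cfsg.Geo.specialLinear (Fin 6) F)) : Nat.card Q = 9196830720 := by
  have h := card_six hF m
  norm_num at h
  omega

theorem card_six_le (hF : Fintype.card F = q ^ 2) (hq : 5 ≤ q) {Q : Type} [Group Q]
    (m : Model Q (Cfsg.GU 6 F q ⊓ Cfsg.Geo.specialLinear (Fin 6) F)) :
    2812533121125000000000000 ≤ 6 * Nat.card Q := by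
  have h := card_six hF m
  have h1 : Nat.gcd 6 (q + 1) ≤ 6 := Nat.gcd_le_left _ (by norm_num)
  have hp : ∀ k : ℕ, 5 ^ k ≤ q ^ k := fun k => Nat.pow_le_pow_left hq k
  have h2 : 5 ^ 15 * ((5 ^ 2 - 1) * (5 ^ 3 + 1) * (5 ^ 4 - 1) * (5 ^ 5 + 1) * (5 ^ 6 - 1)) ≤
      q ^ 15 * ((q ^ 2 - 1) * (q ^ 3 + 1) * (q ^ 4 - 1) * (q ^ 5 + 1) * (q ^ 6 - 1)) := by
    refine Nat.mul_le_mul (hp _) (Nat.mul_le_mul (Nat.mul_le_mul (Nat.mul_le_mul (Nat.mul_le_mul ?_ ?_) ?_) ?_) ?_)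
    · exact Nat.sub_le_sub_right (hp _) _
    · exact Nat.add_le_add_right (hp _) _
    · exact Nat.sub_le_sub_right (hp _) _
    · exact Nat.add_le_add_right (hp _) _
    · exact Nat.sub_le_sub_right (hp _) _
  rw [← h] at h2
  refine le_trans ?_ (h2.trans (Nat.mul_le_mul_right _ h1))
  norm_num

theorem aut_u43 {K : Type} [Field K] [Fintype K] (hK : Fintype.card K = 9) :
    Nat.card (MulAut (Cfsg.PSU 4 K 3)) = 26127360 := by
  have h3 : Fact (Nat.Prime 3) := ⟨Nat.prime_three⟩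
  have hK' : Fintype.card K = 3 ^ 2 := by rw [hK]; norm_num
  have h := S0815.result 3 1 le_rfl (by norm_num) hK' 4 (by norm_num) (by norm_num)
  have h1 := S0280.result hK' 4 (by norm_num)
  simp [Finset.prod_range_succ, Nat.even_iff] at h1
  have h2 : Nat.card (Cfsg.PSU 4 K 3) = 3265920 := by omega
  rw [h, h2]
  norm_num

theorem aut_l34 {K : Type} [Field K] [Fintype K] (hK : Fintype.card K = 4) :
    Nat.card (MulAut (Matrix.ProjectiveSpecialLinearGroup (Fin 3) K)) ≤ 725760 := by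
  have h2 : Fact (Nat.Prime 2) := ⟨Nat.prime_two⟩
  have h1 := S0813.result (F := K) 2 2 (by norm_num) (by rw [hK]; norm_num) 3 (by norm_num) (by norm_num)
  rw [h1]
  have h3 : Nat.card (Matrix.ProjGenLinGroup (Fin 3) K) ∣ 181440 := by
    have h4 : Nat.card (Matrix.ProjGenLinGroup (Fin 3) K) ∣ Nat.card (GL (Fin 3) K) := Subgroup.card_quotient_dvd_card _
    refine h4.trans ?_
    rw [Matrix.card_GL_field, hK, Fin.prod_univ_three]
    norm_num
  rw [if_neg (by norm_num)]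
  have h4 := Nat.le_of_dvd (by norm_num) h3
  omega

theorem aut_a7 : Nat.card (MulAut (alternatingGroup (Fin 7))) ≤ 5040 :=
  Nat.le_of_dvd (by norm_num) H900.SU4.card_mulAut_alt_seven

theorem index_ge {Q : Type} [Group Q] [Finite Q] {A : Subgroup Q} {L : Type*} [Group L] [Finite L] (h : HasSoc A L)
    {c : ℕ} (hc : Nat.card (MulAut L) ≤ c) {B : ℕ} (hB : A.index ≤ B) {N : ℕ} (hN : N ≤ 6 * Nat.card Q)
    (hlt : 6 * (c * B) < N) : False := by
  have h1 : Nat.card Q = Nat.card A * A.index := (Subgroup.card_mul_index A).symm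
  have h2 : Nat.card Q ≤ c * B := by
    rw [h1]
    exact Nat.mul_le_mul (h.card_le.trans hc) hB
  omega

end

/-- `A` has no abelian normal subgroup `≠ 1` -/
abbrev NoAb {Q : Type} [Group Q] (A : Subgroup Q) : Prop :=
  ∀ K : Subgroup Q, K ≤ A → (∀ a ∈ A, ∀ k ∈ K, a * k * a⁻¹ ∈ K) → (∀ a ∈ K, ∀ b ∈ K, a * b = b * a) → K = ⊥

theorem noAb_of_core {Q : Type} [Group Q] {A : Subgroup Q} {ι : Type} [Fintype ι] [DecidableEq ι] {F : Type} [Field F]
    {S : Subgroup (GL ι F)} (m : Model Q S) {P : Subgroup (GL ι F)} (hP : Cfsg.Geo.IsResidualCore (m.hat A) P) :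
    NoAb A := fun _ hK hKn hKab =>
  (hasSoc_of_core m hP).no_abelian hP.simple (fun h => hP.nonabelian ⟨⟨h⟩⟩) hK hKn hKab

/-- **Row S5803.** -/
theorem row_of
    (hL211 : ∀ {Q : Type} [Group Q] [Finite Q], IsSimpleGroup Q → ∀ {A : Subgroup Q} {Γ : Subgroup (MulAut Q)},
      EPT A Γ → NoAb A → HasSoc A (Matrix.ProjectiveSpecialLinearGroup (Fin 2) (ZMod 11)) → A.index ≤ 10 ^ 20)
    (hA7 : ∀ {Q : Type} [Group Q] [Finite Q], IsSimpleGroup Q → ∀ {A : Subgroup Q} {Γ : Subgroup (MulAut Q)},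
      EPT A Γ → NoAb A → HasSoc A (alternatingGroup (Fin 7)) → A.index ≤ 9 * 10 ^ 19)
    (hL34 : ∀ {Q : Type} [Group Q] [Finite Q], IsSimpleGroup Q → ∀ {A : Subgroup Q} {Γ : Subgroup (MulAut Q)},
      EPT A Γ → NoAb A → ∀ {K : Type} [Field K] [Fintype K], Fintype.card K = 4 →
      HasSoc A (Matrix.ProjectiveSpecialLinearGroup (Fin 3) K) → A.index ≤ 6 * 10 ^ 17)
    (hU43 : ∀ {Q : Type} [Group Q] [Finite Q], IsSimpleGroup Q → ∀ {A : Subgroup Q} {Γ : Subgroup (MulAut Q)},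
      EPT A Γ → ∀ {K : Type} [Field K] [Fintype K], Fintype.card K = 9 →
      HasSoc A (Cfsg.PSU 4 K 3) → A.index ≤ 174 * 10 ^ 14)
    (hU43' : ∀ {Q : Type} [Group Q] [Finite Q], IsSimpleGroup Q → ∀ {A : Subgroup Q} {Γ : Subgroup (MulAut Q)},
      EPT A Γ → ∀ {F : Type} [Field F] [Fintype F], Fintype.card F = 2 ^ 2 →
      Model Q (Cfsg.GU 6 F 2 ⊓ Cfsg.Geo.specialLinear (Fin 6) F) → Nat.card Q = 9196830720 →
      ∀ {K : Type} [Field K] [Fintype K], Fintype.card K = 9 → HasSoc A (Cfsg.PSU 4 K 3) → False)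
    (hM22 : ∀ {Q : Type} [Group Q] [Finite Q], IsSimpleGroup Q → ∀ {A : Subgroup Q} {Γ : Subgroup (MulAut Q)},
      EPT A Γ → ∀ {F : Type} [Field F] [Fintype F], Fintype.card F = 2 ^ 2 →
      Model Q (Cfsg.GU 6 F 2 ⊓ Cfsg.Geo.specialLinear (Fin 6) F) → Nat.card Q = 9196830720 →
      HasSoc A ↥Cfsg.Spor.M22 → False)
    (hown : ∀ {Q : Type} [Group Q] [Finite Q], IsSimpleGroup Q → ∀ {A : Subgroup Q} {Γ : Subgroup (MulAut Q)},
      EPT A Γ → ∀ {F : Type} [Field F] [Fintype F] {q : ℕ}, Fintype.card F = q ^ 2 → Odd q →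
      Model Q (Cfsg.GU 6 F q ⊓ Cfsg.Geo.specialLinear (Fin 6) F) → HasSoc A (Cfsg.PSU 3 F q) → False)
    {F : Type} [Field F] [Fintype F] {q : ℕ} (hR : H680.Cov.SU6.R5803 F q)
    {Q : Type} [Group Q] [Finite Q] (hs : IsSimpleGroup Q) {A : Subgroup Q} {Γ : Subgroup (MulAut Q)} (h : EPT A Γ)
    (m : Model Q (Cfsg.GU 6 F q ⊓ Cfsg.Geo.specialLinear (Fin 6) F)) (hF : Fintype.card F = q ^ 2)
    (hres : Cfsg.Geo.InUnitaryResidualClass (m.hat A)) : False := by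
  obtain ⟨P, hP, hcase⟩ := hR _ (m.isMaximalIn h.max) hres
  have hsoc := hasSoc_of_core m hP
  have hab := noAb_of_core m hP
  rcases hcase with ⟨⟨e⟩, hqp, hq2, hq⟩ | ⟨⟨e⟩, hqp, hq⟩ | ⟨⟨K, _, _, hK, ⟨e⟩⟩, hqp, hq⟩ | ⟨⟨e⟩, rfl⟩ |
    ⟨⟨K, _, _, hK, ⟨e⟩⟩, rfl | ⟨hqp, hq⟩⟩ | ⟨⟨e⟩, hq⟩
  · have hq5 : 5 ≤ q := by
      have := hqp.two_le
      omega
    exact index_ge (hsoc.congr e) (H852.NCPsl11.card_aut.le) (hL211 hs h hab (hsoc.congr e)) (card_six_le hF hq5 m)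
      (by norm_num)
  · exact index_ge (hsoc.congr e) aut_a7 (hA7 hs h hab (hsoc.congr e)) (card_six_le hF (by omega) m) (by norm_num)
  · have hf : Finite (Matrix.ProjectiveSpecialLinearGroup (Fin 3) K) := inferInstance
    exact index_ge (hsoc.congr e) (aut_l34 hK) (hL34 hs h hab hK (hsoc.congr e)) (card_six_le hF (by omega) m)
      (by norm_num)
  · exact hM22 hs h hF m (card_six_two hF m) (hsoc.congr e)
  · exact hU43' hs h hF m (card_six_two hF m) hK (hsoc.congr e)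
  · exact index_ge (hsoc.congr e) (aut_u43 hK).le (hU43 hs h hK (hsoc.congr e)) (card_six_le hF (by omega) m)
      (by norm_num)
  · exact hown hs h hF hq m (hsoc.congr e)

end Cfsg.Agent.H835.EP
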