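import Cfsg.Agent.H835.EP.RowSU6B
import Cfsg.Agent.H396.EP.OwnThree
import Cfsg.Agent.H395.EPM.U6
import Cfsg.Agent.H117.EP.ModelPSL

/-!
# S3499, row S5803: `U_6(q)`, residual class: assembly (helper835, task 5971)

`hg` is `H59.EP.twoGen`; `hR` is the conclusion of S5803; what is left is the socle `U_4(3)` (task 5955).
-/

set_option autoImplicit false

namespace Cfsg.Agent.H835.EP

open Subgroup Cfsg.Agent.H284 Cfsg.Agent.H419.EP

/-- **Row S5803**: `U_6(q)`, residual class. -/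
theorem row_su_six (hg : H59.EP.TwoGen.{0}) (OT : OrdDiv.OrderTable.{0})
    (hS : ∀ (X : Type) [Group X] [Finite X] [IsSimpleGroup X], Cfsg.IsKnownSimple' X)
    (hU43 : ∀ {Q : Type} [Group Q] [Finite Q], IsSimpleGroup Q → ∀ {A : Subgroup Q} {Γ : Subgroup (MulAut Q)},
      EPT A Γ → ∀ {K : Type} [Field K] [Fintype K], Fintype.card K = 9 →
      HasSoc A (Cfsg.PSU 4 K 3) → A.index ≤ 174 * 10 ^ 14)
    (hU43' : ∀ {Q : Type} [Group Q] [Finite Q], IsSimpleGroup Q → ∀ {A : Subgroup Q} {Γ : Subgroup (MulAut Q)},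
      EPT A Γ → ∀ {F : Type} [Field F] [Fintype F], Fintype.card F = 2 ^ 2 →
      Model Q (Cfsg.GU 6 F 2 ⊓ Cfsg.Geo.specialLinear (Fin 6) F) → Nat.card Q = 9196830720 →
      ∀ {K : Type} [Field K] [Fintype K], Fintype.card K = 9 → HasSoc A (Cfsg.PSU 4 K 3) → False)
    {F : Type} [Field F] [Fintype F] {q : ℕ} (hR : H680.Cov.SU6.R5803 F q) {Q : Type} [Group Q] [Finite Q]
    (hs : IsSimpleGroup Q) {A : Subgroup Q} {Γ : Subgroup (MulAut Q)} (h : EPT A Γ)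
    (m : Model Q (Cfsg.GU 6 F q ⊓ Cfsg.Geo.specialLinear (Fin 6) F)) (hF : Fintype.card F = q ^ 2)
    (hres : Cfsg.Geo.InUnitaryResidualClass (m.hat A)) : False := by
  refine row hU43 hU43' (fun {Q} _ _ hs A Γ h F _ _ hF m _ hsoc => ?_)
    (fun {Q} _ _ hs A Γ h F _ _ q hF hodd m hsoc => H396.EP.u3_six_own hg hs h hF hodd m hsoc) hR hs h m hF hres
  obtain ⟨N, h1, h2, h3, h4⟩ := hsoc
  obtain ⟨m'⟩ := H117.EP.model_PSU (F := F) hF (show 3 ≤ 6 by norm_num)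
  obtain ⟨e⟩ := equiv_of_models m m'
  exact H395.EPM.u62_m22 OT hS h hF e h1 h2 h4 h3

end Cfsg.Agent.H835.EP
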