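import Cfsg.Agent.H835.EP.RowSU6
import Cfsg.Agent.H59.EP.UBFin
import Cfsg.Agent.H277.ClsPsl

/-!
# S3499, row S5803: `U_6(q)`, residual class, part 2 (helper835, task 5971)

The bounds for the socles `L_2(11)`, `A_7`, `L_3(4)` by UB1 + UB2.
-/

set_option autoImplicit false

namespace Cfsg.Agent.H835.EP

open Subgroup Cfsg.Agent.H284 Cfsg.Agent.H419.EP Cfsg.Agent.H59.EP
open scoped MatrixGroups

section

variable {Q : Type} [Group Q] [Finite Q] {A : Subgroup Q} {Γ : Subgroup (MulAut Q)}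

/-- UB1 + UB2 with a numerical bound -/
theorem idx_le (hs : IsSimpleGroup Q) (h : EPT A Γ)
    (hab : ∀ K : Subgroup Q, K ≤ A → (∀ a ∈ A, ∀ k ∈ K, a * k * a⁻¹ ∈ K) → (∀ a ∈ K, ∀ b ∈ K, a * b = b * a) → K = ⊥)
    (l : List (ℕ × ℕ)) (h1 : ∀ x ∈ l, x.1.Prime ∧ 0 < x.2) (h2 : (l.map Prod.fst).Nodup)
    (h5 : ∀ x ∈ l, 5 ≤ x.1 → x.2 = 1) {c B : ℕ} (hA : Nat.card A = c) (hc : c = (l.map fun x => x.1 ^ x.2).prod)
    (hB : 1 + ((l.map fun x => gal x.1 x.2).sum * (c / 6) + c ^ 2 / 60) * (2 * (c / 6)) ≤ B) : A.index ≤ B := by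
  have := H59.EP.EPT.index_le_fin hs h hab l h1 h2 h5 (hA.trans hc)
  rw [hA] at this
  exact this.trans hB

theorem l34_idx (hs : IsSimpleGroup Q) (h : EPT A Γ)
    (hab : ∀ K : Subgroup Q, K ≤ A → (∀ a ∈ A, ∀ k ∈ K, a * k * a⁻¹ ∈ K) → (∀ a ∈ K, ∀ b ∈ K, a * b = b * a) → K = ⊥)
    (hd : 20160 ∣ Nat.card A) (hd' : Nat.card A ∣ 241920) : A.index ≤ 6 * 10 ^ 17 := by
  obtain ⟨k, hk⟩ := hd
  rw [hk] at hd'
  have hk' : k ∣ 12 := Nat.dvd_of_mul_dvd_mul_left (show 0 < 20160 by norm_num) (by simpa using hd')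
  have hkc : k = 1 ∨ k = 2 ∨ k = 3 ∨ k = 4 ∨ k = 6 ∨ k = 12 := by
    have h1 : k ∈ Nat.divisors 12 := Nat.mem_divisors.2 ⟨hk', by norm_num⟩
    have e : Nat.divisors 12 = {1, 2, 3, 4, 6, 12} := by decide
    rw [e] at h1
    simpa using h1
  rcases hkc with rfl | rfl | rfl | rfl | rfl | rfl
  · exact idx_le hs h hab [(2, 6), (3, 2), (5, 1), (7, 1)] (by decide) (by decide) (by decide) hk (by decide) (by decide +kernel)
  · exact idx_le hs h hab [(2, 7), (3, 2), (5, 1), (7, 1)] (by decide) (by decide) (by decide) hk (by decide) (by decide +kernel)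
  · exact idx_le hs h hab [(2, 6), (3, 3), (5, 1), (7, 1)] (by decide) (by decide) (by decide) hk (by decide) (by decide +kernel)
  · exact idx_le hs h hab [(2, 8), (3, 2), (5, 1), (7, 1)] (by decide) (by decide) (by decide) hk (by decide) (by decide +kernel)
  · exact idx_le hs h hab [(2, 7), (3, 3), (5, 1), (7, 1)] (by decide) (by decide) (by decide) hk (by decide) (by decide +kernel)
  · exact idx_le hs h hab [(2, 8), (3, 3), (5, 1), (7, 1)] (by decide) (by decide) (by decide) hk (by decide) (by decide +kernel)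

theorem a7_idx (hs : IsSimpleGroup Q) (h : EPT A Γ)
    (hab : ∀ K : Subgroup Q, K ≤ A → (∀ a ∈ A, ∀ k ∈ K, a * k * a⁻¹ ∈ K) → (∀ a ∈ K, ∀ b ∈ K, a * b = b * a) → K = ⊥)
    (hd : 2520 ∣ Nat.card A) (hd' : Nat.card A ∣ 5040) : A.index ≤ 9 * 10 ^ 19 := by
  obtain ⟨k, hk⟩ := hd
  rw [hk] at hd'
  have hk' : k ∣ 2 := Nat.dvd_of_mul_dvd_mul_left (show 0 < 2520 by norm_num) (by simpa using hd')
  rcases (Nat.dvd_prime Nat.prime_two).1 hk' with rfl | rfl
  · exact idx_le hs h hab [(2, 3), (3, 2), (5, 1), (7, 1)] (by decide) (by decide) (by decide) hk (by decide) (by decide +kernel)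
  · exact idx_le hs h hab [(2, 4), (3, 2), (5, 1), (7, 1)] (by decide) (by decide) (by decide) hk (by decide) (by decide +kernel)

theorem l211_idx (hs : IsSimpleGroup Q) (h : EPT A Γ)
    (hab : ∀ K : Subgroup Q, K ≤ A → (∀ a ∈ A, ∀ k ∈ K, a * k * a⁻¹ ∈ K) → (∀ a ∈ K, ∀ b ∈ K, a * b = b * a) → K = ⊥)
    (hd : 660 ∣ Nat.card A) (hd' : Nat.card A ∣ 1320) : A.index ≤ 10 ^ 20 := by
  obtain ⟨k, hk⟩ := hd
  rw [hk] at hd'
  have hk' : k ∣ 2 := Nat.dvd_of_mul_dvd_mul_left (show 0 < 660 by norm_num) (by simpa using hd')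
  rcases (Nat.dvd_prime Nat.prime_two).1 hk' with rfl | rfl
  · exact idx_le hs h hab [(2, 2), (3, 1), (5, 1), (11, 1)] (by decide) (by decide) (by decide) hk (by decide) (by decide +kernel)
  · exact idx_le hs h hab [(2, 3), (3, 1), (5, 1), (11, 1)] (by decide) (by decide) (by decide) hk (by decide) (by decide +kernel)

end

theorem card_l34 {K : Type} [Field K] [Fintype K] (hK : Fintype.card K = 4) :
    Nat.card (Matrix.ProjectiveSpecialLinearGroup (Fin 3) K) = 20160 ∧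
      Nat.card (MulAut (Matrix.ProjectiveSpecialLinearGroup (Fin 3) K)) = 241920 := by
  have h2 : Fact (Nat.Prime 2) := ⟨Nat.prime_two⟩
  have h1 := S0813.result (F := K) 2 2 (by norm_num) (by rw [hK]; norm_num) 3 (by norm_num) (by norm_num)
  have h4 : Nat.card (Matrix.ProjectiveSpecialLinearGroup (Fin 3) K) = 20160 := by
    have h := S0243.result (F := K) hK 3 (by norm_num)
    norm_num [Fin.prod_univ_succ] at h
    omega
  have h3 : Nat.card (Matrix.ProjGenLinGroup (Fin 3) K) = 60480 := by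
    rw [H277.ClsPsl.card_pgl hK (by norm_num), h4]
    norm_num
  refine ⟨h4, by rw [h1, h3]; norm_num⟩

/-- **Row S5803**: what is left are `U_4(3)`, `M_22` and `U_3(q)`. -/
theorem row
    (hU43 : ∀ {Q : Type} [Group Q] [Finite Q], IsSimpleGroup Q → ∀ {A : Subgroup Q} {Γ : Subgroup (MulAut Q)},
      EPT A Γ → ∀ {K : Type} [Field K] [Fintype K], Fintype.card K = 9 →
      HasSoc A (Cfsg.PSU 4 K 3) → A.index ≤ 174 * 10 ^ 14)
    (hU43' : ∀ {Q : Type} [Group Q] [Finite Q], IsSimpleGroup Q → ∀ {A : Subgroup Q} {Γ : Subgroup (MulAut Q)},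
      EPT A Γ → ∀ {F : Type} [Field F] [Fintype F], Fintype.card F = 2 ^ 2 →
      Model Q (Cfsg.GU 6 F 2 ⊓ Cfsg.Geo.specialLinear (Fin 6) F) → Nat.card Q = 9196830720 →
      ∀ {K : Type} [Field K] [Fintype K], Fintype.card K = 9 → HasSoc A (Cfsg.PSU 4 K 3) → False)
    (hM22 : ∀ {Q : Type} [Group Q] [Finite Q], IsSimpleGroup Q → ∀ {A : Subgroup Q} {Γ : Subgroup (MulAut Q)},
      EPT A Γ → ∀ {F : Type} [Field F] [Fintype F], Fintype.card F = 2 ^ 2 →
      Model Q (Cfsg.GU 6 F 2 ⊓ Cfsg.Geo.specialLinear (Fin 6) F) → Nat.card Q = 9196830720 →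
      HasSoc A ↥Cfsg.Spor.M22 → False)
    (hown : ∀ {Q : Type} [Group Q] [Finite Q], IsSimpleGroup Q → ∀ {A : Subgroup Q} {Γ : Subgroup (MulAut Q)},
      EPT A Γ → ∀ {F : Type} [Field F] [Fintype F] {q : ℕ}, Fintype.card F = q ^ 2 → Odd q →
      Model Q (Cfsg.GU 6 F q ⊓ Cfsg.Geo.specialLinear (Fin 6) F) → HasSoc A (Cfsg.PSU 3 F q) → False)
    {F : Type} [Field F] [Fintype F] {q : ℕ} (hR : H680.Cov.SU6.R5803 F q) {Q : Type} [Group Q] [Finite Q]
    (hs : IsSimpleGroup Q) {A : Subgroup Q} {Γ : Subgroup (MulAut Q)} (h : EPT A Γ)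
    (m : Model Q (Cfsg.GU 6 F q ⊓ Cfsg.Geo.specialLinear (Fin 6) F)) (hF : Fintype.card F = q ^ 2)
    (hres : Cfsg.Geo.InUnitaryResidualClass (m.hat A)) : False := by
  refine row_of (fun {Q} _ _ hs A Γ h hab hsoc => ?_) (fun {Q} _ _ hs A Γ h hab hsoc => ?_)
    (fun {Q} _ _ hs A Γ h hab K _ _ hK hsoc => ?_) hU43 hU43' hM22 hown hR hs h m hF hres
  · refine l211_idx hs h hab ?_ ?_
    · rw [← H852.NCPsl11.card_psl]
      exact hsoc.card_dvd
    · obtain ⟨f, hf⟩ := hsoc.exists_hom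
      rw [← H852.NCPsl11.card_aut]
      exact Subgroup.card_dvd_of_injective f hf
  · refine a7_idx hs h hab ?_ ?_
    · have h1 : Nat.card (alternatingGroup (Fin 7)) = 2520 := by
        rw [nat_card_alternatingGroup, Nat.card_eq_fintype_card, Fintype.card_fin]
        rfl
      rw [← h1]
      exact hsoc.card_dvd
    · obtain ⟨f, hf⟩ := hsoc.exists_hom
      exact (Subgroup.card_dvd_of_injective f hf).trans H900.SU4.card_mulAut_alt_seven
  · have hf : Finite (Matrix.ProjectiveSpecialLinearGroup (Fin 3) K) := inferInstance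
    obtain ⟨h1, h2⟩ := card_l34 hK
    refine l34_idx hs h hab ?_ ?_
    · rw [← h1]
      exact hsoc.card_dvd
    · obtain ⟨f, hf⟩ := hsoc.exists_hom
      rw [← h2]
      exact Subgroup.card_dvd_of_injective f hf

end Cfsg.Agent.H835.EP
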