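import Cfsg.Agent.H835.EP.RowSU6C
import Cfsg.Agent.H52.EP.U43Fin

/-!
# S3499, row S5803: `U_6(q)`: with helper52's bound for `U_4(3)` (helper835, task 5971)
-/

set_option autoImplicit false

namespace Cfsg.Agent.H835.EP

open Subgroup Cfsg.Agent.H284 Cfsg.Agent.H419.EP

/-- **Row S5803**: `U_6(q)`, residual class, modulo the tight case `U_4(3) < U_6(2)`. -/
theorem row_su_six_of (hg : H59.EP.TwoGen.{0}) (OT : OrdDiv.OrderTable.{0})
    (hS : ∀ (X : Type) [Group X] [Finite X] [IsSimpleGroup X], Cfsg.IsKnownSimple' X)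
    (hU43' : ∀ {Q : Type} [Group Q] [Finite Q], IsSimpleGroup Q → ∀ {A : Subgroup Q} {Γ : Subgroup (MulAut Q)},
      EPT A Γ → ∀ {F : Type} [Field F] [Fintype F], Fintype.card F = 2 ^ 2 →
      Model Q (Cfsg.GU 6 F 2 ⊓ Cfsg.Geo.specialLinear (Fin 6) F) → Nat.card Q = 9196830720 →
      ∀ {K : Type} [Field K] [Fintype K], Fintype.card K = 9 → HasSoc A (Cfsg.PSU 4 K 3) → False)
    {F : Type} [Field F] [Fintype F] {q : ℕ} (hR : H680.Cov.SU6.R5803 F q) {Q : Type} [Group Q] [Finite Q]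
    (hs : IsSimpleGroup Q) {A : Subgroup Q} {Γ : Subgroup (MulAut Q)} (h : EPT A Γ)
    (m : Model Q (Cfsg.GU 6 F q ⊓ Cfsg.Geo.specialLinear (Fin 6) F)) (hF : Fintype.card F = q ^ 2)
    (hres : Cfsg.Geo.InUnitaryResidualClass (m.hat A)) : False :=
  row_su_six hg OT hS (fun hs _ _ h _ _ _ hK hsoc => H52.EP.u43_index hs h hK hsoc) hU43' hR hs h m hF hres

end Cfsg.Agent.H835.EP
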