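import Cfsg.Agent.H835.EP.RowSU6D
import Cfsg.Agent.H968.EPU.Tight

/-!
# S3499, row S5803: `U_6(q)`: final form (helper835, task 5971)

`hg` is `H59.EP.twoGen`; `hR` is the conclusion of S5803.
-/

set_option autoImplicit false

namespace Cfsg.Agent.H835.EP

open Subgroup Cfsg.Agent.H284 Cfsg.Agent.H419.EP

/-- **Row S5803**: `U_6(q)`, residual class. -/
theorem row_su_six_final (hg : H59.EP.TwoGen.{0}) (OT : OrdDiv.OrderTable.{0})
    (hS : ∀ (X : Type) [Group X] [Finite X] [IsSimpleGroup X], Cfsg.IsKnownSimple' X)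
    {F : Type} [Field F] [Fintype F] {q : ℕ} (hR : H680.Cov.SU6.R5803 F q) {Q : Type} [Group Q] [Finite Q]
    (hs : IsSimpleGroup Q) {A : Subgroup Q} {Γ : Subgroup (MulAut Q)} (h : EPT A Γ)
    (m : Model Q (Cfsg.GU 6 F q ⊓ Cfsg.Geo.specialLinear (Fin 6) F)) (hF : Fintype.card F = q ^ 2)
    (hres : Cfsg.Geo.InUnitaryResidualClass (m.hat A)) : False :=
  row_su_six_of hg OT hS (fun hs _ _ h _ _ _ hF m hcard _ _ _ hK hsoc => H968.EPU.u43_u62 hs h hF m hcard hK hsoc)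
    hR hs h m hF hres

end Cfsg.Agent.H835.EP
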